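import Mathlib
import Groth.Prelude.Def_TwC
import Groth.Prelude.Def_Red
import Groth.Agent.TwConst.Basic

/-!
# Base change of constant groups
-/

set_option autoImplicit false
set_option backward.isDefEq.respectTransparency false
set_option linter.style.haveILetI false

universe u

open CategoryTheory CategoryTheory.Limits MonoidalCategory CartesianMonoidalCategory MonObj GrpObj
  AlgebraicGeometry

noncomputable section

namespace Groth.Agent.GenExtGrp

theorem adj_mul {S S' : Scheme.{u}} (f : S' ⟶ S) {H : Over S} [GrpObj H] {T : Over S'} (g g' : T ⟶ Red.bc f H) :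
    ((Over.mapPullbackAdj f).homEquiv T H).symm (g * g') =
      ((Over.mapPullbackAdj f).homEquiv T H).symm g * ((Over.mapPullbackAdj f).homEquiv T H).symm g' := by
  rw [Hom.mul_def, Hom.mul_def]
  change ((Over.mapPullbackAdj f).homEquiv T H).symm
    (lift g g' ≫ Functor.LaxMonoidal.μ (Over.pullback f) H H ≫ (Over.pullback f).map μ) = _
  rw [← Category.assoc, Adjunction.homEquiv_naturality_right_symm]
  congr 1
  apply CartesianMonoidalCategory.hom_ext
  · rw [lift_fst, ← Adjunction.homEquiv_naturality_right_symm, Category.assoc, Functor.Monoidal.μ_fst, lift_fst]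
  · rw [lift_snd, ← Adjunction.homEquiv_naturality_right_symm, Category.assoc, Functor.Monoidal.μ_snd, lift_snd]

/-- The base change of a constant scheme, with its points. -/
theorem exists_constBc {S S' : Scheme.{u}} (k : S' ⟶ S) (I : Type u) :
    ∃ c : Red.bc k (TwC.const S I) ≅ TwC.const S' I, ∀ z : I,
      (TwC.pt S' I z ≫ c.inv).left ≫ pullback.fst _ _ = k ≫ Sigma.ι (fun _ : I => S) z := by
  let d : (∐ fun _ : I => S) ⟶ S := Sigma.desc fun _ => 𝟙 S
  let l : I → (S' ⟶ pullback d k) := fun i =>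
    pullback.lift (k ≫ Sigma.ι (fun _ : I => S) i) (𝟙 S') (by simp [d])
  have hl : ∀ i, IsPullback (l i) k (pullback.fst d k) (Sigma.ι (fun _ : I => S) i) := fun i => by
    refine IsPullback.of_right ?_ (pullback.lift_fst _ _ _) (IsPullback.of_hasPullback d k).flip
    rw [pullback.lift_snd, Sigma.ι_desc]
    exact IsPullback.of_horiz_isIso ⟨by simp⟩
  haveI : ∀ i, IsOpenImmersion (l i) := fun i => MorphismProperty.of_isPullback (hl i).flip inferInstance
  let m : (∐ fun _ : I => S') ⟶ pullback d k := Sigma.desc l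
  haveI : IsOpenImmersion m := isOpenImmersion_sigmaDesc _ _ fun i j hij => by
    refine Set.disjoint_left.mpr ?_
    rintro z ⟨a, rfl⟩ ⟨b, hb⟩
    have h := congrArg (pullback.fst d k) hb
    simp only [← Scheme.Hom.comp_apply, l, pullback.lift_fst] at h
    simp only [Scheme.Hom.comp_apply] at h
    have hd := disjoint_iff.mp (disjoint_opensRange_sigmaι (fun _ : I => S) i j hij)
    have hm : Sigma.ι (fun _ : I => S) i (k a) ∈
        (Sigma.ι (fun _ : I => S) i).opensRange ⊓ (Sigma.ι (fun _ : I => S) j).opensRange :=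
      ⟨⟨_, rfl⟩, ⟨k b, h⟩⟩
    rw [hd] at hm
    exact hm
  haveI : Surjective m := ⟨fun z => by
    obtain ⟨⟨i, a⟩, ha⟩ := (sigmaMk fun _ : I => S).surjective (pullback.fst d k z)
    rw [sigmaMk_mk] at ha
    obtain ⟨y, hy, -⟩ := Scheme.exists_preimage_of_isPullback (hl i) z a ha.symm
    exact ⟨Sigma.ι (fun _ : I => S') i y, by rw [← Scheme.Hom.comp_apply, Sigma.ι_desc, hy]⟩⟩
  haveI : IsIso m := by
    rw [isIso_iff_isOpenImmersion_and_epi_base]
    exact ⟨inferInstance, (TopCat.epi_iff_surjective _).mpr m.surjective⟩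
  refine ⟨(Over.isoMk (asIso m) (Sigma.hom_ext _ _ fun i => by
    show Sigma.ι (fun _ : I => S') i ≫ m ≫ pullback.snd d k =
      Sigma.ι (fun _ : I => S') i ≫ Sigma.desc fun _ : I => 𝟙 S'
    rw [Sigma.ι_desc_assoc, Sigma.ι_desc, pullback.lift_snd])).symm, fun z => ?_⟩
  show (Sigma.ι (fun _ : I => S') z ≫ m) ≫ pullback.fst d k = _
  rw [Sigma.ι_desc, pullback.lift_fst]

/-- The base change of a constant group is a constant group. -/
theorem exists_constGrp_bc {S S' : Scheme.{u}} (k : S' ⟶ S) {Z : Type u} [Group Z] {G : Over S} [GrpObj G]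
    (eG : G ≅ TwC.const S Z) (hG : TwC.IsConstGrp Z G eG) :
    ∃ e' : Red.bc k G ≅ TwC.const S' Z, TwC.IsConstGrp Z (Red.bc k G) e' := by
  obtain ⟨c, hc⟩ := exists_constBc k Z
  refine ⟨(Over.pullback k).mapIso eG ≪≫ c, fun m n => ?_⟩
  let E := ((Over.mapPullbackAdj k).homEquiv (𝟙_ (Over S')) G).symm
  have hpt : ∀ z : Z, E (TwC.pt S' Z z ≫ ((Over.pullback k).mapIso eG ≪≫ c).inv) =
      toUnit _ ≫ TwC.pt S Z z ≫ eG.inv := fun z => by
    show ((Over.mapPullbackAdj k).homEquiv _ _).symm
      (TwC.pt S' Z z ≫ c.inv ≫ (Over.pullback k).map eG.inv) = _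
    rw [← Category.assoc, Adjunction.homEquiv_naturality_right_symm, ← Category.assoc]
    congr 1
    ext1
    rw [Adjunction.homEquiv_counit]
    simp only [Over.comp_left, Over.map_map_left, Over.mapPullbackAdj_counit_app, Over.homMk_left]
    refine (hc z).trans ?_
    show _ = (𝟙 S' ≫ k) ≫ _
    rw [Category.id_comp]
    rfl
  apply E.injective
  show ((Over.mapPullbackAdj k).homEquiv _ _).symm _ = _
  rw [adj_mul]
  refine (congrArg₂ (· * ·) (hpt m) (hpt n)).trans ?_
  refine Eq.trans ?_ (hpt (m * n)).symm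
  rw [← hG m n, MonObj.comp_mul]

end Groth.Agent.GenExtGrp
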