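import Mathlib
import Groth.Prelude.Def_TwC
import Groth.Agent.Unibranch.Open

/-!
# Morphisms to constant schemes extend uniquely from the generic fibre
-/

set_option autoImplicit false
set_option linter.style.haveILetI false

universe u

open CategoryTheory CategoryTheory.Limits AlgebraicGeometry TopologicalSpace

noncomputable section

namespace Groth.Agent.GenExtGrp

variable {S : Scheme.{u}} {Z : Type u}

theorem exists_mem_copy {T : Over S} (g : T ⟶ TwC.const S Z) (x : T.left) :
    ∃ z, g.left x ∈ Set.range (Sigma.ι (fun _ : Z => S) z) := by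
  obtain ⟨⟨z, b⟩, hb⟩ := (sigmaMk fun _ : Z => S).surjective (g.left x)
  rw [sigmaMk_mk] at hb
  exact ⟨z, b, hb⟩

/-- The copy of the base containing the image of a point. -/
def idx {T : Over S} (g : T ⟶ TwC.const S Z) (x : T.left) : Z := (exists_mem_copy g x).choose

theorem idx_spec {T : Over S} (g : T ⟶ TwC.const S Z) (x : T.left) :
    g.left x ∈ Set.range (Sigma.ι (fun _ : Z => S) (idx g x)) := (exists_mem_copy g x).choose_spec

theorem idx_eq_iff {T : Over S} (g : T ⟶ TwC.const S Z) (x : T.left) (z : Z) :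
    idx g x = z ↔ g.left x ∈ Set.range (Sigma.ι (fun _ : Z => S) z) := by
  refine ⟨fun h => h ▸ idx_spec g x, fun ⟨b, hb⟩ => ?_⟩
  obtain ⟨c, hc⟩ := idx_spec g x
  have h : sigmaMk (fun _ : Z => S) ⟨idx g x, c⟩ = sigmaMk (fun _ : Z => S) ⟨z, b⟩ := by
    rw [sigmaMk_mk, sigmaMk_mk, hc, hb]
  exact congrArg Sigma.fst ((sigmaMk fun _ : Z => S).injective h)

theorem isOpen_idx {T : Over S} (g : T ⟶ TwC.const S Z) (z : Z) : IsOpen {x | idx g x = z} := by
  simp_rw [idx_eq_iff]
  exact (Sigma.ι (fun _ : Z => S) z).isOpenEmbedding.isOpen_range.preimage g.left.continuous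

theorem eq_of_range_subset {T : Over S} (g : T ⟶ TwC.const S Z) (z : Z) {U : Scheme.{u}} (f : U ⟶ T.left)
    (h : ∀ x, idx g (f x) = z) : f ≫ g.left = (f ≫ T.hom) ≫ Sigma.ι (fun _ : Z => S) z := by
  have hr : Set.range (f ≫ g.left) ⊆ Set.range (Sigma.ι (fun _ : Z => S) z) := by
    rintro _ ⟨x, rfl⟩
    rw [Scheme.Hom.comp_apply]
    exact (idx_eq_iff g _ z).mp (h x)
  have hfac := IsOpenImmersion.lift_fac (Sigma.ι (fun _ : Z => S) z) (f ≫ g.left) hr
  have hl : IsOpenImmersion.lift (Sigma.ι (fun _ : Z => S) z) (f ≫ g.left) hr = f ≫ T.hom := by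
    have := congrArg (fun m => m ≫ (TwC.const S Z).hom) hfac
    simp only [Category.assoc] at this
    rw [show Sigma.ι (fun _ : Z => S) z ≫ (TwC.const S Z).hom = 𝟙 S from Sigma.ι_desc _ _,
      Category.comp_id, Over.w g] at this
    exact this
  rw [← hfac, hl]

theorem hom_ext_idx {T : Over S} (a b : T ⟶ TwC.const S Z) (h : ∀ x, idx a x = idx b x) : a = b := by
  ext1
  let U : Z → T.left.Opens := fun z => ⟨{x | idx a x = z}, isOpen_idx a z⟩
  have hU : IsOpenCover U := by
    rw [IsOpenCover, eq_top_iff]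
    intro x _
    exact Opens.mem_iSup.mpr ⟨idx a x, rfl⟩
  refine Scheme.Cover.hom_ext (T.left.openCoverOfIsOpenCover U hU) _ _ fun z => ?_
  show (U z).ι ≫ a.left = (U z).ι ≫ b.left
  exact (eq_of_range_subset a z (U z).ι fun x => x.2).trans
    (eq_of_range_subset b z (U z).ι fun x => (h _).symm.trans x.2).symm

theorem exists_hom_of_idx (T : Over S) (ψ : T.left → Z) (hψ : ∀ z, IsOpen (ψ ⁻¹' {z})) :
    ∃ g : T ⟶ TwC.const S Z, ∀ x, idx g x = ψ x := by
  let U : Z → T.left.Opens := fun z => ⟨ψ ⁻¹' {z}, hψ z⟩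
  have hU : IsOpenCover U := by
    rw [IsOpenCover, eq_top_iff]
    intro x _
    exact Opens.mem_iSup.mpr ⟨ψ x, rfl⟩
  let 𝒰 := T.left.openCoverOfIsOpenCover U hU
  let g : T.left ⟶ (TwC.const S Z).left := Scheme.Cover.glueMorphisms 𝒰
    (fun z => ((U z).ι ≫ T.hom) ≫ Sigma.ι (fun _ : Z => S) z) (fun z z' => by
      by_cases hz : z = z'
      · subst hz
        have : pullback.fst (𝒰.f z) (𝒰.f z) = pullback.snd (𝒰.f z) (𝒰.f z) := by
          haveI : Mono (𝒰.f z) := inferInstanceAs (Mono (U z).ι)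
          exact (cancel_mono (𝒰.f z)).mp pullback.condition
        rw [this]
      · haveI : IsEmpty ↥(pullback (𝒰.f z) (𝒰.f z')) := ⟨fun d => hz (by
          have h1 : ψ ((U z).ι (pullback.fst (𝒰.f z) (𝒰.f z') d)) = z :=
            (pullback.fst (𝒰.f z) (𝒰.f z') d).2
          have h2 : ψ ((U z').ι (pullback.snd (𝒰.f z) (𝒰.f z') d)) = z' :=
            (pullback.snd (𝒰.f z) (𝒰.f z') d).2
          have h3 : (U z).ι (pullback.fst (𝒰.f z) (𝒰.f z') d) =
              (U z').ι (pullback.snd (𝒰.f z) (𝒰.f z') d) := by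
            show 𝒰.f z _ = 𝒰.f z' _
            rw [← Scheme.Hom.comp_apply, pullback.condition, Scheme.Hom.comp_apply]
          exact h1.symm.trans ((congrArg ψ h3).trans h2))⟩
        exact (isInitialOfIsEmpty).hom_ext _ _)
  have hg : ∀ z, (U z).ι ≫ g = ((U z).ι ≫ T.hom) ≫ Sigma.ι (fun _ : Z => S) z :=
    fun z => Scheme.Cover.ι_glueMorphisms 𝒰 _ _ z
  refine ⟨Over.homMk g (Scheme.Cover.hom_ext 𝒰 _ _ fun z => ?_), fun x => ?_⟩
  · show (U z).ι ≫ g ≫ (TwC.const S Z).hom = (U z).ι ≫ T.hom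
    refine ((Category.assoc _ _ _).symm.trans (congrArg (· ≫ (TwC.const S Z).hom) (hg z))).trans ?_
    show (((U z).ι ≫ T.hom) ≫ Sigma.ι (fun _ : Z => S) z) ≫ Sigma.desc (fun _ : Z => 𝟙 S) = _
    exact (Category.assoc _ _ _).trans
      ((congrArg (((U z).ι ≫ T.hom) ≫ ·) (Sigma.ι_desc _ _)).trans (Category.comp_id _))
  · rw [idx_eq_iff]
    refine ⟨T.hom x, ?_⟩
    have := congrArg (fun m => m (⟨x, rfl⟩ : U (ψ x))) (hg (ψ x))
    simp only [Scheme.Hom.comp_apply] at this
    exact this.symm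

variable [IrreducibleSpace S] {ξ : S}

/-- Morphisms to a constant scheme from a flat locally irreducible scheme over an irreducible base are
the morphisms on the generic fibre. -/
theorem bijective_map_pullback (hξ : IsGenericPoint ξ (Set.univ : Set S)) (X : Over S) [Flat X.hom]
    (hirr : ∀ x : X.left, ∃ U : Set X.left, IsOpen U ∧ x ∈ U ∧ IsIrreducible U) :
    Function.Bijective fun h : X ⟶ TwC.const S Z => (Over.pullback (S.fromSpecResidueField ξ)).map h := by
  let i := S.fromSpecResidueField ξ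
  let adj := Over.mapPullbackAdj i
  let J : Over S := (Over.map i).obj ((Over.pullback i).obj X)
  let j : J ⟶ X := adj.counit.app X
  have key : ∀ h : X ⟶ TwC.const S Z,
      (Over.pullback i).map h = adj.homEquiv ((Over.pullback i).obj X) _ (j ≫ h) := fun h => by
    rw [adj.homEquiv_unit, Functor.map_comp, ← Category.assoc, adj.right_triangle_components,
      Category.id_comp]
  suffices h : Function.Bijective fun h : X ⟶ TwC.const S Z => j ≫ h by
    have : (fun h : X ⟶ TwC.const S Z => (Over.pullback i).map h) =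
        adj.homEquiv ((Over.pullback i).obj X) _ ∘ fun h => j ≫ h := funext key
    rw [this]
    exact (adj.homEquiv _ _).bijective.comp h
  have hj : j.left = pullback.fst X.hom i := by simp [j, adj]
  have hje : Topology.IsEmbedding j.left := by rw [hj]; exact (pullback.fst X.hom i).isEmbedding
  have hjr : Set.range j.left = X.hom ⁻¹' {ξ} := by
    rw [hj]
    refine (Scheme.Pullback.range_fst X.hom i).trans ?_
    show X.hom ⁻¹' Set.range (S.fromSpecResidueField ξ) = _
    rw [Scheme.range_fromSpecResidueField]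
  have hidx : ∀ (h : X ⟶ TwC.const S Z) (y : J.left), idx (j ≫ h) y = idx h (j.left y) := fun h y => by
    rw [idx_eq_iff]
    exact idx_spec h (j.left y)
  -- maximal points and their specializations
  have hmax : ∀ x : X.left, ∃ y : J.left, (∀ x', x' ⤳ j.left y → x' = j.left y) ∧ j.left y ⤳ x := fun x => by
    obtain ⟨m, hm, hmm⟩ := Groth.Agent.Unibranch.exists_max_specializes x
    obtain ⟨m', hm', he⟩ := Flat.generalizingMap X.hom (hξ.specializes (Set.mem_univ (X.hom m)))
    rw [hmm m' hm'] at he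
    obtain ⟨y, rfl⟩ : m ∈ Set.range j.left := by rw [hjr]; exact he
    exact ⟨y, hmm, hm⟩
  have huniq : ∀ (V : Set X.left), IsOpen V → IsIrreducible V → ∀ a b : X.left,
      (∀ x', x' ⤳ a → x' = a) → (∀ x', x' ⤳ b → x' = b) → a ∈ V → b ∈ V → a = b := by
    intro V hVo hV a b ha hb haV hbV
    obtain ⟨ζ, hζ⟩ := QuasiSober.sober hV.closure isClosed_closure
    rw [← ha ζ (hζ.specializes (subset_closure haV)), hb ζ (hζ.specializes (subset_closure hbV))]
  choose μ hμ hμs using hmax
  have hconst : ∀ (V : Set X.left), IsOpen V → IsIrreducible V → ∀ x ∈ V, ∀ x' ∈ V, μ x = μ x' :=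
    fun V hVo hV x hx x' hx' => hje.injective
      (huniq V hVo hV _ _ (hμ x) (hμ x') ((hμs x).mem_open hVo hx) ((hμs x').mem_open hVo hx'))
  refine ⟨fun a b hab => hom_ext_idx a b fun x => ?_, fun g => ?_⟩
  · have hcont : ∀ h : X ⟶ TwC.const S Z, idx h x = idx (j ≫ h) (μ x) := fun h => by
      rw [hidx]
      exact ((hμs x).mem_open (isOpen_idx h _) rfl).symm
    rw [hcont a, hcont b]
    exact congrArg (fun m => idx m (μ x)) hab
  · obtain ⟨h, hh⟩ := exists_hom_of_idx X (fun x => idx g (μ x)) fun z => by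
      refine isOpen_iff_forall_mem_open.mpr fun x hx => ?_
      obtain ⟨V, hVo, hxV, hV⟩ := hirr x
      refine ⟨V, fun x' hx' => ?_, hVo, hxV⟩
      show idx g (μ x') = z
      rw [hconst V hVo hV x' hx' x hxV]
      exact hx
    refine ⟨h, hom_ext_idx (j ≫ h) g fun y => ?_⟩
    rw [hidx, hh]
    exact (hje.isInducing.specializes_iff.mp (hμs (j.left y))).mem_open (isOpen_idx g _) rfl

end Groth.Agent.GenExtGrp
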