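import Mathlib
import Groth.Agent.GenExtGrp.Lift
import Groth.Agent.GenExtGrp.Section
import Groth.Agent.UnibrTorsor.Irred
import Groth.Agent.TwConst.Valuative
import Groth.Agent.S9812

/-!
# Extensions by torsion-free constant groups extend from the generic fibre
-/

set_option autoImplicit false
set_option backward.isDefEq.respectTransparency false
set_option linter.style.haveILetI false
set_option synthInstance.maxHeartbeats 200000
set_option maxHeartbeats 1000000

universe u

open CategoryTheory CategoryTheory.Limits MonoidalCategory CartesianMonoidalCategory MonObj GrpObj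
  AlgebraicGeometry

noncomputable section

namespace Groth.Agent.GenExtGrp

theorem isGeomUnibranch_stalk_spec_field (K : CommRingCat.{u}) (hK : IsField K) (x : Spec K) :
    CAlg2.IsGeomUnibranch ((Spec K).presheaf.stalk x) := by
  letI := hK.toField
  let A : Type u := (AlgebraicGeometry.Spec.structureSheaf K).presheaf.stalk x
  letI : CommRing A := inferInstanceAs (CommRing ((AlgebraicGeometry.Spec.structureSheaf K).presheaf.stalk x))
  letI : Algebra K A := StructureSheaf.stalkAlgebra K x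
  have hle : (x : PrimeSpectrum K).asIdeal.primeCompl ≤ nonZeroDivisors K :=
    (x : PrimeSpectrum K).asIdeal.primeCompl_le_nonZeroDivisors
  haveI : IsLocalization.AtPrime A (x : PrimeSpectrum K).asIdeal := StructureSheaf.IsLocalization.to_stalk K x
  haveI : IsDomain A := IsLocalization.isDomain_of_le_nonZeroDivisors _ hle
  haveI : IsLocalRing A := IsLocalization.AtPrime.isLocalRing A (x : PrimeSpectrum K).asIdeal
  haveI : IsIntegrallyClosed A :=
    isIntegrallyClosed_of_isLocalization _ (x : PrimeSpectrum K).asIdeal.primeCompl hle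
  exact Groth.Agent.S9812.result A

/-- The product, without its product group structure. -/
def prodObj {S : Scheme.{u}} (G P : Over S) : Over S := G ⊗ P

variable {S : Scheme.{u}} [IrreducibleSpace S] {ξ : S} {Z : Type u} [Group Z]

theorem exists_extension (hS : ∀ s : S, CAlg2.IsGeomUnibranch (S.presheaf.stalk s))
    (hξ : IsGenericPoint ξ (Set.univ : Set S)) (hZ : ∀ z : Z, IsOfFinOrder z → z = 1)
    (G P : Over S) [GrpObj G] [GrpObj P] (eG : G ≅ TwC.const S Z) (hG : TwC.IsConstGrp Z G eG) [Smooth P.hom]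
    (E' : Over (Spec (S.residueField ξ))) [GrpObj E']
    (u' : Red.bc (S.fromSpecResidueField ξ) G ⟶ E') (v' : E' ⟶ Red.bc (S.fromSpecResidueField ξ) P)
    (hex' : NonAbH1.IsExactSeq Scheme.fppfPrecoverage u' v') :
    ∃ (E : Over S) (_ : GrpObj E) (u : G ⟶ E) (v : E ⟶ P)
      (φ : Red.bc (S.fromSpecResidueField ξ) E ≅ E'),
      NonAbH1.IsExactSeq Scheme.fppfPrecoverage u v ∧ IsMonHom φ.hom ∧
        (Over.pullback (S.fromSpecResidueField ξ)).map u ≫ φ.hom = u' ∧
        φ.hom ≫ v' = (Over.pullback (S.fromSpecResidueField ξ)).map v := by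
  haveI := hex'.1
  haveI := hex'.2.1
  let i := S.fromSpecResidueField ξ
  let F := Over.pullback i
  haveI hGs : Smooth G.hom := by
    obtain ⟨he, -⟩ := Groth.Agent.TwConst.etale_separated_const S Z
    haveI : AlgebraicGeometry.Etale (TwC.const S Z).hom := he
    haveI : IsIso eG.hom.left := inferInstanceAs (IsIso ((Over.forget S).map eG.hom))
    haveI : AlgebraicGeometry.Etale G.hom := by rw [← Over.w eG.hom]; infer_instance
    infer_instance
  -- morphisms to `G` extend uniquely from the generic fibre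
  have bij : ∀ X : Over S, Smooth X.hom → Function.Bijective fun h : X ⟶ G => F.map h := by
    intro X hX
    have hb := bijective_map_pullback (Z := Z) hξ X
      (Groth.Agent.UnibrTorsor.exists_irreducible_nhd hS X.hom)
    refine ⟨fun a b h => ?_, fun g => ?_⟩
    · exact (cancel_mono eG.hom).mp (hb.1 (by
        show F.map (a ≫ eG.hom) = F.map (b ≫ eG.hom)
        rw [F.map_comp, F.map_comp]; exact congrArg (· ≫ F.map eG.hom) h))
    · obtain ⟨h, hh⟩ := hb.2 (g ≫ F.map eG.hom)
      replace hh : F.map h = g ≫ F.map eG.hom := hh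
      refine ⟨h ≫ eG.inv, ?_⟩
      show F.map (h ≫ eG.inv) = g
      rw [F.map_comp, hh, Category.assoc, ← F.map_comp, eG.hom_inv_id, F.map_id, Category.comp_id]
  -- the section over the generic fibre
  obtain ⟨eη, hGη⟩ := exists_constGrp_bc i eG hG
  obtain ⟨s, hs⟩ := exists_section_of_exact hGη hZ hex' (fun h => by
    haveI := h
    haveI : IrreducibleSpace (Spec (S.residueField ξ)) := inferInstance
    haveI : Smooth (Red.bc i P).hom := inferInstanceAs (Smooth (pullback.snd P.hom i))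
    haveI : Smooth E'.hom := by rw [← Over.w v']; infer_instance
    exact Groth.Agent.UnibrTorsor.exists_irreducible_nhd
      (isGeomUnibranch_stalk_spec_field _ (Field.toIsField _)) E'.hom)
  let E : Over S := prodObj G P
  let p₁ : E ⟶ G := fst G P
  let p₂ : E ⟶ P := snd G P
  let mkE : ∀ {T : Over S}, (T ⟶ G) → (T ⟶ P) → (T ⟶ E) := fun g p => lift g p
  have hmk₁ : ∀ {T : Over S} (g : T ⟶ G) (p : T ⟶ P), mkE g p ≫ p₁ = g := fun g p => lift_fst g p
  have hmk₂ : ∀ {T : Over S} (g : T ⟶ G) (p : T ⟶ P), mkE g p ≫ p₂ = p := fun g p => lift_snd g p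
  have hEext : ∀ {T : Over S} (a b : T ⟶ E), a ≫ p₁ = b ≫ p₁ → a ≫ p₂ = b ≫ p₂ → a = b :=
    fun a b h₁ h₂ => CartesianMonoidalCategory.hom_ext (X := G) (Y := P) a b h₁ h₂
  have hFext : ∀ {T : Over (Spec (S.residueField ξ))} (a b : T ⟶ F.obj E),
      a ≫ F.map p₁ = b ≫ F.map p₁ → a ≫ F.map p₂ = b ≫ F.map p₂ → a = b := fun a b h₁ h₂ => by
    refine (cancel_mono (Functor.OplaxMonoidal.δ F G P)).mp ?_
    apply CartesianMonoidalCategory.hom_ext
    · rw [Category.assoc, Category.assoc, Functor.OplaxMonoidal.δ_fst]; exact h₁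
    · rw [Category.assoc, Category.assoc, Functor.OplaxMonoidal.δ_snd]; exact h₂
  let Φ₀ : F.obj E ⟶ E' := (F.map p₁ ≫ u') * (F.map p₂ ≫ s)
  have hΦv : Φ₀ ≫ v' = F.map p₂ := by
    simp only [Φ₀, MonObj.mul_comp, Category.assoc, hex'.2.2.1, hs, MonObj.comp_one, _root_.one_mul]
    exact Category.comp_id _
  obtain ⟨c, hc⟩ := Groth.Agent.FppfExtLib.exists_of_comp_eq_one hex' (𝟙 E' * (v' ≫ s)⁻¹)
    (by rw [MonObj.mul_comp, GrpObj.inv_comp, Category.assoc, hs, Category.comp_id, Category.id_comp,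
      mul_inv_cancel])
  let Φi : E' ⟶ F.obj E := lift c v' ≫ Functor.LaxMonoidal.μ F G P
  have hΦi₁ : Φi ≫ F.map p₁ = c := by
    show (lift c v' ≫ Functor.LaxMonoidal.μ F G P) ≫ F.map (fst G P) = c
    rw [Category.assoc, Functor.Monoidal.μ_fst]
    exact lift_fst _ _
  have hΦi₂ : Φi ≫ F.map p₂ = v' := by
    show (lift c v' ≫ Functor.LaxMonoidal.μ F G P) ≫ F.map (snd G P) = v'
    rw [Category.assoc, Functor.Monoidal.μ_snd]
    exact lift_snd _ _
  let Φ : F.obj E ≅ E' :=
    { hom := Φ₀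
      inv := Φi
      hom_inv_id := by
        apply hFext
        · rw [Category.assoc, hΦi₁, Category.id_comp]
          refine Groth.Agent.FppfExtLib.eq_of_comp_eq hex' ?_
          rw [Category.assoc, hc, MonObj.comp_mul, Category.comp_id, GrpObj.comp_inv, ← Category.assoc, hΦv]
          exact mul_inv_cancel_right _ _
        · rw [Category.assoc, hΦi₂, Category.id_comp, hΦv]
      inv_hom_id := by
        rw [show Φ₀ = (F.map p₁ ≫ u') * (F.map p₂ ≫ s) from rfl, MonObj.comp_mul, ← Category.assoc, hΦi₁,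
          ← Category.assoc, hΦi₂, hc, inv_mul_cancel_right] }
  have hΦ : Φ.hom = Φ₀ := rfl
  -- points of `E`
  have crit : ∀ {T : Over S}, Smooth T.hom → ∀ a b : T ⟶ E,
      F.map a ≫ Φ.hom = F.map b ≫ Φ.hom → a ≫ p₂ = b ≫ p₂ → a = b := by
    intro T hT a b h h₂
    refine hEext a b ((bij T hT).1 ?_) h₂
    show F.map (a ≫ p₁) = F.map (b ≫ p₁)
    rw [F.map_comp, F.map_comp, (Iso.cancel_iso_hom_right _ _ Φ).mp h]
  have mk : ∀ {T : Over S}, Smooth T.hom → ∀ (m : F.obj T ⟶ E') (p : T ⟶ P), m ≫ v' = F.map p →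
      ∃ a : T ⟶ E, F.map a ≫ Φ.hom = m ∧ a ≫ p₂ = p := by
    intro T hT m p hmp
    obtain ⟨g, hg⟩ := (bij T hT).2 (m ≫ Φi ≫ F.map p₁)
    replace hg : F.map g = m ≫ Φi ≫ F.map p₁ := hg
    refine ⟨mkE g p, ?_, hmk₂ _ _⟩
    have : F.map (mkE g p) = m ≫ Φi := by
      apply hFext
      · rw [← F.map_comp, hmk₁, hg, ← Category.assoc]
      · rw [← F.map_comp, hmk₂, Category.assoc, hΦi₂, hmp]
    rw [this, Category.assoc, show Φi = Φ.inv from rfl, Iso.inv_hom_id, Category.comp_id]
  haveI hsm : ∀ (A B : Over S) [Smooth A.hom] [Smooth B.hom], Smooth (A ⊗ B).hom := fun A B _ _ => by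
    show Smooth (pullback.fst A.hom B.hom ≫ A.hom)
    infer_instance
  haveI : Smooth (𝟙_ (Over S)).hom := inferInstanceAs (Smooth (𝟙 S))
  haveI hEs : Smooth E.hom := hsm G P
  obtain ⟨one, hone₁, hone₂⟩ := mk (T := 𝟙_ (Over S)) inferInstance 1 1
    (by rw [MonObj.one_comp]; exact F.map_one.symm)
  obtain ⟨mul, hmul₁, hmul₂⟩ := mk (T := E ⊗ E) (hsm E E)
    ((F.map (fst E E) ≫ Φ.hom) * (F.map (snd E E) ≫ Φ.hom)) ((fst E E ≫ p₂) * (snd E E ≫ p₂))
    (by rw [MonObj.mul_comp, Category.assoc, Category.assoc, hΦ, hΦv, F.map_mul, F.map_comp, F.map_comp])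
  obtain ⟨inv, hinv₁, hinv₂⟩ := mk (T := E) hEs (Φ.hom)⁻¹ p₂⁻¹
    (by rw [GrpObj.inv_comp, hΦ, hΦv]; exact (map_inv (F.homMonoidHom (X := E) (M := P)) p₂).symm)
  have hμ₁ : ∀ {T : Over S} (a b : T ⟶ E),
      F.map (lift a b ≫ mul) ≫ Φ.hom = (F.map a ≫ Φ.hom) * (F.map b ≫ Φ.hom) := fun a b => by
    rw [F.map_comp, Category.assoc, hmul₁, MonObj.comp_mul, ← Category.assoc, ← Category.assoc,
      ← F.map_comp, ← F.map_comp, lift_fst, lift_snd]
  have hμ₂ : ∀ {T : Over S} (a b : T ⟶ E), (lift a b ≫ mul) ≫ p₂ = (a ≫ p₂) * (b ≫ p₂) := fun a b => by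
    rw [Category.assoc, hmul₂, MonObj.comp_mul, lift_fst_assoc, lift_snd_assoc]
  have hη₁ : ∀ (T : Over S), F.map (toUnit T ≫ one) ≫ Φ.hom = 1 := fun T => by
    rw [F.map_comp, Category.assoc, hone₁, MonObj.comp_one]
  have hη₂ : ∀ (T : Over S), (toUnit T ≫ one) ≫ p₂ = 1 := fun T => by
    rw [Category.assoc, hone₂, MonObj.comp_one]
  letI grpE : GrpObj E :=
    { one := one
      mul := mul
      one_mul := by
        haveI := hsm (𝟙_ (Over S)) E
        rw [show one ▷ E = lift (toUnit _ ≫ one) (snd _ _) from by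
          apply CartesianMonoidalCategory.hom_ext
          · rw [whiskerRight_fst, lift_fst]
            congr 1
          · rw [whiskerRight_snd, lift_snd]]
        refine crit inferInstance _ _ ?_ ?_
        · rw [hμ₁, hη₁, _root_.one_mul, leftUnitor_hom]
        · rw [hμ₂, hη₂, _root_.one_mul, leftUnitor_hom]
      mul_one := by
        haveI := hsm E (𝟙_ (Over S))
        rw [show E ◁ one = lift (fst _ _) (toUnit _ ≫ one) from by
          apply CartesianMonoidalCategory.hom_ext
          · rw [whiskerLeft_fst, lift_fst]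
          · rw [whiskerLeft_snd, lift_snd, toUnit_unique (snd E (𝟙_ (Over S))) (toUnit _)]]
        refine crit inferInstance _ _ ?_ ?_
        · rw [hμ₁, hη₁, _root_.mul_one, rightUnitor_hom]
        · rw [hμ₂, hη₂, _root_.mul_one, rightUnitor_hom]
      mul_assoc := by
        haveI := hsm E E
        haveI := hsm (E ⊗ E) E
        have h1 : mul ▷ E = lift (lift (fst (E ⊗ E) E ≫ fst E E) (fst (E ⊗ E) E ≫ snd E E) ≫ mul)
            (snd (E ⊗ E) E) := by
          apply CartesianMonoidalCategory.hom_ext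
          · rw [whiskerRight_fst, lift_fst, ← comp_lift, lift_fst_snd, Category.comp_id]
          · rw [whiskerRight_snd, lift_snd]
        have h2 : (α_ E E E).hom ≫ (E ◁ mul) = lift (fst (E ⊗ E) E ≫ fst E E)
            (lift (fst (E ⊗ E) E ≫ snd E E) (snd (E ⊗ E) E) ≫ mul) := by
          apply CartesianMonoidalCategory.hom_ext
          · simp
          · rw [lift_snd, Category.assoc, whiskerLeft_snd, ← Category.assoc]
            congr 1
            apply CartesianMonoidalCategory.hom_ext <;> simp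
        rw [h1, ← Category.assoc (α_ E E E).hom, h2]
        refine crit inferInstance _ _ ?_ ?_
        · simp only [hμ₁, _root_.mul_assoc]
        · simp only [hμ₂, _root_.mul_assoc]
      inv := inv
      left_inv := by
        refine crit hEs _ _ ?_ ?_
        · rw [hμ₁, hη₁, hinv₁, F.map_id, Category.id_comp, inv_mul_cancel]
        · rw [hμ₂, hη₂, hinv₂, Category.id_comp, inv_mul_cancel]
      right_inv := by
        refine crit hEs _ _ ?_ ?_
        · rw [hμ₁, hη₁, hinv₁, F.map_id, Category.id_comp, mul_inv_cancel]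
        · rw [hμ₂, hη₂, hinv₂, Category.id_comp, mul_inv_cancel] }
  haveI hΦhom : IsMonHom Φ.hom :=
    { one_hom := by
        show (Functor.LaxMonoidal.ε F ≫ F.map one) ≫ Φ.hom = η[E']
        rw [Category.assoc, hone₁, MonObj.comp_one, Hom.one_def]
        rw [toUnit_unique (toUnit _) (𝟙 _), Category.id_comp]
      mul_hom := by
        show (Functor.LaxMonoidal.μ F E E ≫ F.map mul) ≫ Φ.hom = (Φ.hom ⊗ₘ Φ.hom) ≫ μ[E']
        rw [Category.assoc, hmul₁, MonObj.comp_mul, ← Category.assoc, ← Category.assoc,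
          Functor.Monoidal.μ_fst, Functor.Monoidal.μ_snd, Hom.mul_def]
        congr 1
        }
  obtain ⟨uE, hu₁, hu₂⟩ := mk (T := G) hGs u' 1 (by rw [hex'.2.2.1]; exact F.map_one.symm)
  haveI hp₂ : IsMonHom p₂ :=
    { one_hom := by
        show one ≫ p₂ = η[P]
        rw [hone₂, Hom.one_def, toUnit_unique (toUnit _) (𝟙 _), Category.id_comp]
      mul_hom := by
        show mul ≫ p₂ = (p₂ ⊗ₘ p₂) ≫ μ[P]
        rw [hmul₂, Hom.mul_def]
        congr 1
        }
  haveI huE : IsMonHom uE :=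
    { one_hom := by
        show η[G] ≫ uE = one
        refine crit inferInstance _ _ ?_ ?_
        · rw [F.map_comp, Category.assoc, hu₁, hone₁,
            show η[G] = (1 : 𝟙_ (Over S) ⟶ G) from by
              rw [Hom.one_def, toUnit_unique (toUnit _) (𝟙 _), Category.id_comp],
            F.map_one, MonObj.one_comp]
        · rw [Category.assoc, hu₂, hone₂, MonObj.comp_one]
      mul_hom := by
        haveI := hsm G G
        have hμG : μ[G] = fst G G * snd G G := by rw [Hom.mul_def, lift_fst_snd, Category.id_comp]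
        have ht : (uE ⊗ₘ uE) = lift (fst G G ≫ uE) (snd G G ≫ uE) := by
          apply CartesianMonoidalCategory.hom_ext <;> simp
        show μ[G] ≫ uE = (uE ⊗ₘ uE) ≫ mul
        rw [ht]
        refine crit inferInstance _ _ ?_ ?_
        · rw [hμ₁, F.map_comp, Category.assoc, hu₁, F.map_comp, F.map_comp, Category.assoc, Category.assoc,
            hu₁, hμG, F.map_mul, MonObj.mul_comp]
        · rw [hμ₂, Category.assoc, Category.assoc, Category.assoc, hu₂, MonObj.comp_one, MonObj.comp_one,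
            MonObj.comp_one, _root_.one_mul] }
  refine ⟨E, grpE, uE, p₂, Φ, ⟨huE, hp₂, hu₂, ?_, ?_⟩, hΦhom, hu₁, hΦv⟩
  · haveI := hsm E G
    let t : E ⊗ G ⟶ E := (E ◁ uE) ≫ mul
    have ht : t = lift (fst E G) (snd E G ≫ uE) ≫ mul := by
      simp only [t]
      congr 1
    have ht₁ : F.map t ≫ Φ.hom = (F.map (fst E G) ≫ Φ.hom) * (F.map (snd E G) ≫ u') := by
      rw [ht, hμ₁, F.map_comp (snd E G) uE, Category.assoc, hu₁]
    have ht₂ : t ≫ p₂ = fst E G ≫ p₂ := by
      rw [ht, hμ₂, Category.assoc, hu₂, MonObj.comp_one, _root_.mul_one]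
    let θ : E ⊗ G ⟶ E ⊗ G := lift (fst E G) (t ≫ p₁)
    let g₂ : E ⊗ G ⟶ E := mkE (snd E G) (fst E G ≫ p₂)
    have hg₁ : g₂ ≫ p₁ = snd E G := hmk₁ _ _
    have hg₂ : g₂ ≫ p₂ = fst E G ≫ p₂ := hmk₂ _ _
    obtain ⟨c₁, hc₁⟩ := Groth.Agent.FppfExtLib.exists_of_comp_eq_one hex'
      ((F.map (fst E G) ≫ Φ.hom)⁻¹ * (F.map g₂ ≫ Φ.hom)) (by
        rw [MonObj.mul_comp, GrpObj.inv_comp, Category.assoc, Category.assoc, hΦ, hΦv, ← F.map_comp,
          ← F.map_comp, hg₂, inv_mul_cancel])
    obtain ⟨γ', hγ⟩ := (bij (E ⊗ G) inferInstance).2 c₁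
    replace hγ : F.map γ' = c₁ := hγ
    let ψ : E ⊗ G ⟶ E ⊗ G := lift (fst E G) γ'
    have hA : ψ ≫ t = g₂ := by
      refine crit inferInstance _ _ ?_ ?_
      · rw [F.map_comp, Category.assoc, ht₁, MonObj.comp_mul, ← Category.assoc, ← Category.assoc,
          ← F.map_comp, ← F.map_comp, lift_fst, lift_snd, hγ, hc₁, mul_inv_cancel_left]
      · rw [Category.assoc, ht₂, hg₂, ← Category.assoc, lift_fst]
    have hθg : θ ≫ g₂ = t := by
      refine hEext _ _ ?_ ?_
      · rw [Category.assoc, hg₁, lift_snd]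
      · rw [Category.assoc, hg₂, ← Category.assoc, lift_fst, ht₂]
    have hB : θ ≫ ψ = 𝟙 _ := by
      apply CartesianMonoidalCategory.hom_ext
      · simp [θ, ψ]
      · rw [Category.assoc, lift_snd, Category.id_comp]
        refine (bij (E ⊗ G) inferInstance).1 (Groth.Agent.FppfExtLib.eq_of_comp_eq hex' ?_)
        show F.map (θ ≫ γ') ≫ u' = F.map (snd E G) ≫ u'
        rw [F.map_comp, Category.assoc, hγ, hc₁, MonObj.comp_mul, GrpObj.comp_inv, ← Category.assoc,
          ← Category.assoc, ← F.map_comp, ← F.map_comp, hθg, lift_fst, ht₁, inv_mul_cancel_left]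
    show IsPullback (fst E G) t p₂ p₂
    have hlift : ∀ {T : Over S} (a b : T ⟶ E), a ≫ p₂ = b ≫ p₂ →
        (lift a (b ≫ p₁) ≫ ψ) ≫ fst E G = a ∧ (lift a (b ≫ p₁) ≫ ψ) ≫ t = b := by
      intro T a b hab
      refine ⟨by rw [Category.assoc, lift_fst, lift_fst], ?_⟩
      rw [Category.assoc, hA]
      refine hEext _ _ ?_ ?_
      · rw [Category.assoc, hg₁, lift_snd]
      · rw [Category.assoc, hg₂, ← Category.assoc, lift_fst, hab]
    have huniq : ∀ {T : Over S} (m : T ⟶ E ⊗ G), m = lift (m ≫ fst E G) ((m ≫ t) ≫ p₁) ≫ ψ := fun m => by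
      rw [Category.assoc m t p₁, ← comp_lift, Category.assoc, hB, Category.comp_id]
    exact ⟨⟨ht₂.symm⟩, ⟨PullbackCone.isLimitAux' _ fun σ =>
      ⟨lift σ.fst (σ.snd ≫ p₁) ≫ ψ, (hlift σ.fst σ.snd σ.condition).1, (hlift σ.fst σ.snd σ.condition).2,
        fun {m} h₁ h₂ => (huniq m).trans (by
          change m ≫ fst E G = σ.fst at h₁
          change m ≫ t = σ.snd at h₂
          rw [← h₁, ← h₂])⟩⟩⟩
  · refine ⟨Presieve.singleton (𝟙 P.left), Precoverage.mem_coverings_of_isIso (𝟙 P.left), ?_⟩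
    rintro S' f ⟨⟩
    exact ⟨(mkE (1 : P ⟶ G) (𝟙 P)).left, congrArg (fun m : P ⟶ P => m.left) (hmk₂ _ _)⟩

end Groth.Agent.GenExtGrp
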